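import Mathlib
import Cfsg.Agent.Lib.UnipotentGL.Commutant

/-!
The ring map from the commutant of a unipotent matrix of given Jordan type to its diagonal blocks of
top coefficients.
-/

set_option autoImplicit false

namespace CfsgLib.SpUnip

open Matrix CfsgLib.UnipotentGL

variable {F : Type*} [Field F] {t : ℕ} {d : Fin t → ℕ}

local notation "Jm" => Cfsg.jordanTypeMatrix d F

/-- Commuting with the unipotent matrix. -/
def Com (X : Matrix (Idx d) (Idx d) F) : Prop := X * Jm = Jm * X

theorem Com.one : Com (1 : Matrix (Idx d) (Idx d) F) := by rw [Com, one_mul, mul_one]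

theorem Com.mul {X Y : Matrix (Idx d) (Idx d) F} (hX : Com X) (hY : Com Y) : Com (X * Y) := by
  rw [Com, mul_assoc, hY, ← mul_assoc, hX, mul_assoc]

theorem Com.sub {X Y : Matrix (Idx d) (Idx d) F} (hX : Com X) (hY : Com Y) : Com (X - Y) := by
  rw [Com, sub_mul, mul_sub, hX, hY]

theorem Com.add {X Y : Matrix (Idx d) (Idx d) F} (hX : Com X) (hY : Com Y) : Com (X + Y) := by
  rw [Com, add_mul, mul_add, hX, hY]

theorem Com.pow {X : Matrix (Idx d) (Idx d) F} (hX : Com X) : ∀ n : ℕ, Com (X ^ n)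
  | 0 => by rw [pow_zero]; exact Com.one
  | n + 1 => by rw [pow_succ]; exact (Com.pow hX n).mul hX

/-- A matrix which raises a bounded weight is nilpotent. -/
theorem pow_eq_zero_of_weight {ι : Type*} [Fintype ι] [DecidableEq ι] {Y : Matrix ι ι F}
    (w : ι → ℕ) (N : ℕ) (hw : ∀ i, w i < N) (h : ∀ i l, Y i l ≠ 0 → w i < w l) : Y ^ N = 0 := by
  have key : ∀ (n : ℕ) i l, (Y ^ n) i l ≠ 0 → w i + n ≤ w l := by
    intro n
    induction n with
    | zero =>
      intro i l hne
      rw [pow_zero, Matrix.one_apply] at hne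
      split_ifs at hne with hil
      · subst hil; rfl
      · exact absurd rfl hne
    | succ n ih =>
      intro i l hne
      rw [pow_succ, Matrix.mul_apply] at hne
      obtain ⟨k, -, hk⟩ := Finset.exists_ne_zero_of_sum_ne_zero hne
      obtain ⟨hk1, hk2⟩ := mul_ne_zero_iff.1 hk
      have := ih i k hk1
      have := h k l hk2
      omega
  ext i l
  by_contra hne
  have := key N i l hne
  have := hw l
  omega

variable (hd : ∀ k, 0 < d k)

/-- The first index of a block. -/
def fst (k : Fin t) : Idx d := ⟨k, ⟨0, hd k⟩⟩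

/-- The last index of a block. -/
def lst (k : Fin t) : Idx d := ⟨k, ⟨d k - 1, Nat.sub_lt (hd k) one_pos⟩⟩

/-- The top coefficients. -/
def top (X : Matrix (Idx d) (Idx d) F) : Matrix (Fin t) (Fin t) F :=
  Matrix.of fun k l => X (fst hd k) (fst hd l)

theorem top_apply (X : Matrix (Idx d) (Idx d) F) (k l : Fin t) :
    top hd X k l = X (fst hd k) (fst hd l) := rfl

theorem top_eq_zero {X : Matrix (Idx d) (Idx d) F} (hX : Com X) {k l : Fin t} (h : d l < d k) :
    top hd X k l = 0 :=
  first_col_zero hX k l 0 (hd k) (hd l) (by omega)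

theorem top_one : top hd (1 : Matrix (Idx d) (Idx d) F) = 1 := by
  ext k l
  rw [top_apply, Matrix.one_apply, Matrix.one_apply]
  refine if_congr ⟨fun h => congrArg Sigma.fst h, fun h => ?_⟩ rfl rfl
  subst h
  rfl

theorem top_mul {X : Matrix (Idx d) (Idx d) F} (hX : Com X) (Y : Matrix (Idx d) (Idx d) F) :
    top hd (X * Y) = top hd X * top hd Y := by
  ext i l
  rw [top_apply, Matrix.mul_apply, Matrix.mul_apply, Fintype.sum_sigma]
  refine Finset.sum_congr rfl fun k _ => ?_
  rw [Finset.sum_eq_single (⟨0, hd k⟩ : Fin (d k))]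
  · rfl
  · rintro ⟨b, hb⟩ - hne
    have hb0 : b ≠ 0 := fun h => hne (Fin.ext h)
    rw [fst, shift hX i k b hb 0 (hd i), if_neg (by omega), zero_mul]
  · simp

theorem top_pow {X : Matrix (Idx d) (Idx d) F} (hX : Com X) : ∀ n : ℕ, top hd (X ^ n) = top hd X ^ n
  | 0 => by rw [pow_zero, pow_zero, top_one]
  | n + 1 => by rw [pow_succ', pow_succ', top_mul hd hX, top_pow hX n]

/-- The diagonal block of the top coefficients. -/
def blk (X : Matrix (Idx d) (Idx d) F) (j : ℕ) : Matrix {k // d k = j} {k // d k = j} F :=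
  (top hd X).toSquareBlock d j

omit [Field F] in
theorem blk_apply (X : Matrix (Idx d) (Idx d) F) {j : ℕ} (k l : {k // d k = j}) :
    blk hd X j k l = top hd X k.1 l.1 := rfl

omit [Field F] in
theorem sum_eq_sum_block {A : Type*} [AddCommMonoid A] {f : Fin t → A} {j : ℕ}
    (h : ∀ k, f k ≠ 0 → d k = j) : ∑ k, f k = ∑ k : {k // d k = j}, f k.1 := by
  rw [← Finset.sum_subtype (Finset.univ.filter fun k => d k = j) (by simp) f,
    Finset.sum_filter_of_ne fun k _ hk => h k hk]

theorem blk_one (j : ℕ) : blk hd (1 : Matrix (Idx d) (Idx d) F) j = 1 := by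
  ext k l
  rw [blk_apply, top_one, Matrix.one_apply, Matrix.one_apply]
  simp [Subtype.ext_iff]

theorem blk_mul {X Y : Matrix (Idx d) (Idx d) F} (hX : Com X) (hY : Com Y) (j : ℕ) :
    blk hd (X * Y) j = blk hd X j * blk hd Y j := by
  ext i l
  rw [blk_apply, top_mul hd hX, Matrix.mul_apply, Matrix.mul_apply]
  refine sum_eq_sum_block fun k hk => ?_
  obtain ⟨h1, h2⟩ := mul_ne_zero_iff.1 hk
  have h1' : ¬ d k < d i.1 := fun h => h1 (top_eq_zero hd hX h)
  have h2' : ¬ d l.1 < d k := fun h => h2 (top_eq_zero hd hY h)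
  have := i.2
  have := l.2
  omega

theorem blk_sub (X Y : Matrix (Idx d) (Idx d) F) (j : ℕ) :
    blk hd (X - Y) j = blk hd X j - blk hd Y j := rfl

theorem isUnit_of_blk {X : Matrix (Idx d) (Idx d) F} (hX : Com X) (h : ∀ j, IsUnit (blk hd X j)) :
    IsUnit X := by
  rw [← toMat_params hX, toMat_injective_iff (fun k => hd k), socleMat_isUnit_iff]
  intro j
  convert h j using 1
  ext ⟨k, hk⟩ ⟨l, hl⟩
  simp only [Matrix.toSquareBlock, Matrix.toSquareBlockProp, Matrix.toBlock, Matrix.submatrix_apply, socleMat, params,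
    Matrix.of_apply, blk, top, fst]
  have := hd k
  rw [dif_pos (by omega)]
  congr 2
  exact Fin.ext (by simp only; omega)

/-- Zero diagonal blocks force nilpotency. -/
theorem pow_eq_zero_of_blk {X : Matrix (Idx d) (Idx d) F} (hX : Com X) (h : ∀ j, blk hd X j = 0) :
    X ^ ((Finset.univ.sup d + 1) * (Finset.univ.sup d + 1)) = 0 := by
  have hle : ∀ k, d k ≤ Finset.univ.sup d := fun k => Finset.le_sup (Finset.mem_univ k)
  have htop : top hd (X ^ (Finset.univ.sup d + 1)) = 0 := by
    rw [top_pow hd hX]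
    refine pow_eq_zero_of_weight d _ (fun k => Nat.lt_succ_of_le (hle k)) fun i l hne => ?_
    rcases lt_trichotomy (d i) (d l) with h1 | h1 | h1
    · exact h1
    · exact absurd (congrFun (congrFun (h (d i)) ⟨i, rfl⟩) ⟨l, h1.symm⟩) hne
    · exact absurd (top_eq_zero hd hX h1) hne
  rw [pow_mul]
  refine pow_eq_zero_of_weight (fun x : Idx d => Finset.univ.sup d - x.2.1) _
    (fun x => Nat.lt_succ_of_le (Nat.sub_le _ _)) ?_
  rintro ⟨k, a, ha⟩ ⟨l, b, hb⟩ hne
  rw [shift (hX.pow _) k l b hb a ha] at hne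
  split_ifs at hne with hba
  · have hab : a ≠ b := by
      rintro rfl
      refine hne ?_
      have := congrFun (congrFun htop k) l
      rw [top_apply, fst, fst] at this
      simpa using this
    have := hle k
    simp only
    omega
  · exact absurd rfl hne

/-- The block-scalar matrix with prescribed diagonal blocks. -/
def lift (S : ∀ j, Matrix {k // d k = j} {k // d k = j} F) : Matrix (Idx d) (Idx d) F :=
  Matrix.of fun x y => if h : d y.1 = d x.1 ∧ x.2.1 = y.2.1 then S (d x.1) ⟨x.1, rfl⟩ ⟨y.1, h.1⟩ else 0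

theorem lift_com (S : ∀ j, Matrix {k // d k = j} {k // d k = j} F) : Com (lift S) := by
  rw [Com, commute_iff]
  rintro ⟨k, a, ha⟩ ⟨l, b, hb⟩
  simp only [lift, Matrix.of_apply, suc, pre]
  split_ifs <;> first | rfl | omega

theorem blk_lift (S : ∀ j, Matrix {k // d k = j} {k // d k = j} F) (j : ℕ) :
    blk hd (lift S) j = S j := by
  ext ⟨k, hk⟩ ⟨l, hl⟩
  subst hk
  rw [blk_apply, top_apply]
  simp only [lift, Matrix.of_apply, fst]
  rw [dif_pos ⟨hl, trivial⟩]

end CfsgLib.SpUnip
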