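import Mathlib
import Cfsg.Agent.Lib.FormsDisc.Basic
import Cfsg.Agent.Lib.LinFix.SympIndex

/-!
Congruence of invertible skew and of invertible symmetric matrices over a finite field of odd
characteristic.
-/

set_option autoImplicit false

namespace CfsgLib.SpUnip

open Matrix

variable {F : Type*} [Field F] {ι : Type*} [Fintype ι] [DecidableEq ι]

theorem bil_single (M : Matrix ι ι F) (i j : ι) :
    Matrix.toLinearMap₂' F M (Pi.single i (1 : F)) (Pi.single j (1 : F)) = M i j := by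
  rw [Matrix.toLinearMap₂'_apply', mulVec_single_one, single_dotProduct, one_mul]
  rfl

/-- An invertible skew matrix is the standard one in suitable coordinates. -/
theorem exists_symp_coords (h2 : (2 : F) ≠ 0) {G : Matrix ι ι F} (hG : Gᵀ = -G) (hu : IsUnit G) :
    ∃ (r : ℕ) (P : Matrix (Fin r ⊕ Fin r) ι F) (Q : Matrix ι (Fin r ⊕ Fin r) F),
      P * Q = 1 ∧ Q * P = 1 ∧ Pᵀ * Matrix.J (Fin r) F * P = G ∧ Fintype.card ι = 2 * r := by
  obtain ⟨r, e, he⟩ := CfsgLib.LinFix.exists_sympEquiv (Matrix.toLinearMap₂' F G) (fun v => by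
      have h : v ⬝ᵥ G *ᵥ v = -(v ⬝ᵥ G *ᵥ v) := by
        conv_lhs => rw [dotProduct_mulVec, ← mulVec_transpose, dotProduct_comm, hG, neg_mulVec,
          dotProduct_neg]
      rw [Matrix.toLinearMap₂'_apply']
      refine (mul_eq_zero.1 ?_).resolve_left h2
      linear_combination h)
    (fun v hv => by
      have hz : v ᵥ* G = 0 := funext fun i => by
        have := hv (Pi.single i 1)
        rwa [Matrix.toLinearMap₂'_apply', dotProduct_mulVec, dotProduct_single, mul_one] at this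
      exact Matrix.vecMul_injective_iff_isUnit.2 hu (hz.trans (Matrix.zero_vecMul G).symm))
  refine ⟨r, LinearMap.toMatrix' e.toLinearMap, LinearMap.toMatrix' e.symm.toLinearMap, ?_, ?_, ?_, ?_⟩
  · rw [← LinearMap.toMatrix'_comp, LinearEquiv.comp_symm, LinearMap.toMatrix'_id]
  · rw [← LinearMap.toMatrix'_comp, LinearEquiv.symm_comp, LinearMap.toMatrix'_id]
  · ext i j
    have h := he (Pi.single i 1) (Pi.single j 1)
    have hcol : ∀ i, (LinearMap.toMatrix' e.toLinearMap) *ᵥ Pi.single i 1 = e (Pi.single i 1) :=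
      fun i => by rw [LinearMap.toMatrix'_mulVec]; rfl
    replace h := (bil_single G i j).symm.trans h
    rw [h, Cfsg.sympForm, ← hcol, ← hcol, mulVec_single_one, mulVec_single_one, Matrix.mul_assoc,
      Matrix.mul_apply]
    rfl
  · have := e.finrank_eq
    rw [Module.finrank_pi, Module.finrank_pi, Fintype.card_sum, Fintype.card_fin] at this
    omega

/-- Invertible skew matrices of the same size are congruent. -/
theorem exists_congr_skew (h2 : (2 : F) ≠ 0) {G₀ G₁ : Matrix ι ι F} (h₀ : G₀ᵀ = -G₀) (u₀ : IsUnit G₀)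
    (h₁ : G₁ᵀ = -G₁) (u₁ : IsUnit G₁) : ∃ S : Matrix ι ι F, IsUnit S ∧ Sᵀ * G₀ * S = G₁ := by
  obtain ⟨r, P, Q, hPQ, hQP, hP, hc⟩ := exists_symp_coords h2 h₀ u₀
  obtain ⟨r', P', Q', hPQ', hQP', hP', hc'⟩ := exists_symp_coords h2 h₁ u₁
  obtain rfl : r = r' := by omega
  refine ⟨Q * P', IsUnit.of_mul_eq_one (Q' * P) ?_, ?_⟩
  · rw [Matrix.mul_assoc, ← Matrix.mul_assoc P', hPQ', Matrix.one_mul, hQP]
  · rw [← hP, transpose_mul, ← hP']
    have h : Qᵀ * Pᵀ = 1 := by rw [← transpose_mul, hPQ, transpose_one]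
    calc P'ᵀ * Qᵀ * (Pᵀ * Matrix.J (Fin r) F * P) * (Q * P')
        = P'ᵀ * (Qᵀ * Pᵀ) * Matrix.J (Fin r) F * ((P * Q) * P') := by
          simp only [Matrix.mul_assoc]
      _ = P'ᵀ * Matrix.J (Fin r) F * P' := by rw [h, hPQ, Matrix.mul_one, Matrix.one_mul]

variable [Fintype F]

/-- Invertible symmetric matrices with discriminants in the same square class are congruent. -/
theorem exists_congr_symm (h2 : (2 : F) ≠ 0) {G₀ G₁ : Matrix ι ι F} (h₀ : G₀ᵀ = G₀) (u₀ : IsUnit G₀)
    (h₁ : G₁ᵀ = G₁) (u₁ : IsUnit G₁) (hs : IsSquare (G₀.det * G₁.det)) :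
    ∃ S : Matrix ι ι F, IsUnit S ∧ Sᵀ * G₀ * S = G₁ := by
  let n := Fintype.card ι
  let e : ι ≃ Fin n := Fintype.equivFin ι
  let H : Matrix ι ι F → Matrix (Fin n) (Fin n) F := fun G => G.submatrix e.symm e.symm
  let Q : Matrix ι ι F → QuadraticForm F (Fin n → F) := fun G => (H G).toQuadraticForm'
  have hpol : ∀ G : Matrix ι ι F, Gᵀ = G →
      QuadraticMap.polarBilin (Q G) = Matrix.toLinearMap₂' F ((2 : F) • H G) := by
    intro G hG
    refine (Pi.basisFun F (Fin n)).ext fun i => (Pi.basisFun F (Fin n)).ext fun j => ?_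
    simp only [Pi.basisFun_apply, QuadraticMap.polarBilin_apply_apply, Q, Matrix.toQuadraticForm',
      LinearMap.BilinMap.polar_toQuadraticMap]
    refine (congrArg₂ (· + ·) (bil_single (H G) i j) (bil_single (H G) j i)).trans
      (Eq.trans ?_ (bil_single ((2 : F) • H G) i j).symm)
    have : H G j i = H G i j := by
      show Gᵀ (e.symm i) (e.symm j) = _
      rw [hG]; rfl
    rw [Matrix.smul_apply, smul_eq_mul, this, two_mul]
  have hmat : ∀ G : Matrix ι ι F, Gᵀ = G → (Matrix.of fun i j : Fin n =>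
      QuadraticMap.polar ⇑(Q G) (Pi.single i 1) (Pi.single j 1)) = (2 : F) • H G := by
    intro G hG
    ext i j
    rw [Matrix.of_apply, ← QuadraticMap.polarBilin_apply_apply, hpol G hG]
    exact bil_single _ i j
  have hdet : ∀ G : Matrix ι ι F, ((2 : F) • H G).det = 2 ^ n * G.det := fun G => by
    rw [Matrix.det_smul, Fintype.card_fin]
    simp only [H, Matrix.det_submatrix_equiv_self]
  have hnd : ∀ G : Matrix ι ι F, Gᵀ = G → IsUnit G →
      (QuadraticMap.polarBilin (Q G)).Nondegenerate := by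
    intro G hG hu
    rw [hpol G hG]
    exact LinearMap.BilinForm.nondegenerate_toBilin'_iff_det_ne_zero.2 (by
      rw [hdet]
      exact mul_ne_zero (pow_ne_zero _ h2) ((Matrix.isUnit_iff_isUnit_det _).1 hu).ne_zero)
  obtain ⟨f⟩ := CfsgLib.FormsDisc.equivalent_of_disc h2 (Q G₁) (Q G₀) (hnd _ h₁ u₁) (hnd _ h₀ u₀) (by
    rw [hmat _ h₁, hmat _ h₀, hdet, hdet]
    obtain ⟨s, hs⟩ := hs
    exact ⟨2 ^ n * s, by linear_combination ((2 : F) ^ n) ^ 2 * hs⟩)
  let M : Matrix (Fin n) (Fin n) F := LinearMap.toMatrix' f.toLinearEquiv.toLinearMap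
  have hf : Mᵀ * H G₀ * M = H G₁ := by
    ext i j
    have hpolar : QuadraticMap.polar ⇑(Q G₀) (f (Pi.single i 1)) (f (Pi.single j 1)) =
        QuadraticMap.polar ⇑(Q G₁) (Pi.single i 1) (Pi.single j 1) := by
      simp only [QuadraticMap.polar, ← map_add f, f.map_app]
    rw [← QuadraticMap.polarBilin_apply_apply, ← QuadraticMap.polarBilin_apply_apply, hpol _ h₁,
      hpol _ h₀] at hpolar
    replace hpolar := ((Matrix.toLinearMap₂'_apply' _ _ _).symm.trans hpolar).trans
      (bil_single ((2 : F) • H G₁) i j)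
    rw [smul_mulVec, dotProduct_smul, Matrix.smul_apply, smul_eq_mul, smul_eq_mul] at hpolar
    have hcol : ∀ i, M *ᵥ Pi.single i 1 = f (Pi.single i 1) :=
      fun i => by rw [LinearMap.toMatrix'_mulVec]; rfl
    rw [← mul_left_cancel₀ h2 hpolar, ← hcol, ← hcol, mulVec_single_one, mulVec_single_one,
      Matrix.mul_assoc, Matrix.mul_apply]
    rfl
  have hMu : IsUnit M := IsUnit.of_mul_eq_one
    (LinearMap.toMatrix' f.toLinearEquiv.symm.toLinearMap) (by
      rw [← LinearMap.toMatrix'_comp, LinearEquiv.comp_symm, LinearMap.toMatrix'_id])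
  refine ⟨M.submatrix e e, (Matrix.isUnit_submatrix_equiv e e).2 hMu, ?_⟩
  have h : (Mᵀ * H G₀ * M).submatrix e e = G₁ := by
    rw [hf]
    ext i j
    simp [H]
  rw [← h, Matrix.submatrix_mul _ _ _ e _ e.bijective, Matrix.submatrix_mul _ _ _ e _ e.bijective,
    Matrix.transpose_submatrix]
  congr 2
  ext i j
  simp [H]

end CfsgLib.SpUnip
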