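import Cfsg.Agent.Lib.SpUnipClass.Frame

/-!
Classes of elements of `p`-power one in the symplectic group, counted by signed partitions.
-/

set_option autoImplicit false

namespace CfsgLib.SpUnip

open Matrix CfsgLib.UnipotentGL CfsgLib.UnipotentClassical CfsgLib.LinFix
open Classical

variable {F : Type*} [Field F] {m : ℕ}

section Dim

variable {n : ℕ} (μ : Nat.Partition n)

/-- The block sizes of a partition. -/
noncomputable def dims : Fin μ.parts.toList.length → ℕ := fun k => μ.parts.toList.get k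

theorem dims_map : Finset.univ.val.map (dims μ) = μ.parts := by
  rw [Fin.univ_val_map]
  show ((List.ofFn μ.parts.toList.get : List ℕ) : Multiset ℕ) = _
  rw [List.ofFn_get, Multiset.coe_toList]

theorem dims_mem (k : Fin μ.parts.toList.length) : dims μ k ∈ μ.parts :=
  Multiset.mem_toList.1 (List.get_mem _ k)

theorem dims_pos (k : Fin μ.parts.toList.length) : 0 < dims μ k := μ.parts_pos (dims_mem μ k)

theorem sum_dims_sub (j : ℕ) : ∑ k, (dims μ k - j) = blockRank μ.parts j := by
  conv_rhs => rw [blockRank, ← dims_map μ, Multiset.map_map]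
  rfl

theorem sum_dims : ∑ k, dims μ k = n := by
  have := sum_dims_sub μ 0
  simpa [blockRank_zero, μ.parts_sum] using this

theorem count_dims (j : ℕ) :
    (Finset.univ.filter fun k => dims μ k = j).card = μ.parts.count j := by
  conv_rhs => rw [← dims_map μ, Multiset.count_map]
  rw [Finset.card_def, Finset.filter_val]
  congr 1
  exact Multiset.filter_congr fun k _ => eq_comm

theorem image_dims : Finset.univ.image (dims μ) = μ.parts.toFinset := by
  rw [Finset.image, dims_map]

end Dim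

variable (p : ℕ)

/-- Admissible partitions. -/
def Good (m p : ℕ) : Type :=
  {μ : Nat.Partition (2 * m) // (∀ a ∈ μ.parts, a ≤ p) ∧ ∀ j : ℕ, Odd j → Even (μ.parts.count j)}

/-- The sizes which carry a sign. -/
def Good.signed (μ : Good m p) : Finset ℕ := μ.1.parts.toFinset.filter fun j => Even j

variable {p}

theorem Good.mem_signed (μ : Good m p) (j : ℕ) :
    j ∈ μ.signed p ↔ Even j ∧ j ∈ Finset.univ.image (dims μ.1) := by
  rw [image_dims, Good.signed, Finset.mem_filter]
  exact and_comm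

noncomputable instance : Fintype (Good m p) := Subtype.fintype _

/-- The number of signed partitions. -/
theorem card_signed [DecidablePred fun μ : Nat.Partition (2 * m) =>
    (∀ a ∈ μ.parts, a ≤ p) ∧ ∀ j : ℕ, Odd j → Even (μ.parts.count j)] :
    Nat.card (Σ μ : Good m p, ({j // j ∈ μ.signed p} → Bool)) =
      ∑ μ ∈ Finset.univ.filter (fun μ : Nat.Partition (2 * m) => (∀ a ∈ μ.parts, a ≤ p) ∧
        ∀ j : ℕ, Odd j → Even (μ.parts.count j)),
        2 ^ (μ.parts.toFinset.filter (fun j : ℕ => Even j)).card := by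
  rw [Nat.card_sigma]
  refine Eq.trans ?_ (Finset.sum_subtype (p := fun μ : Nat.Partition (2 * m) =>
    (∀ a ∈ μ.parts, a ≤ p) ∧ ∀ j : ℕ, Odd j → Even (μ.parts.count j))
    (F := (inferInstance : Fintype (Good m p))) _ (fun μ => by simp) _).symm
  refine Finset.sum_congr rfl fun μ _ => ?_
  rw [Nat.card_fun, Nat.card_eq_finsetCard, Nat.card_eq_fintype_card, Fintype.card_bool]
  rfl

variable [Fintype F] [Fact p.Prime] [CharP F p]

/-- A matrix realising a signed partition. -/
theorem exists_rep (hp : p ≠ 2) (μ : Good m p) (s : {j // j ∈ μ.signed p} → Bool) :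
    ∃ (g : symplecticGroup (Fin m) F) (f : Frame (dims μ.1) g.1), g ^ p = 1 ∧
      ∀ (j : ℕ) (hj : j ∈ μ.signed p), disc (dims_pos μ.1) f.form j ↔ s ⟨j, hj⟩ = true := by
  classical
  have h2 := two_ne_zero_char (F := F) p hp
  have hA : HasAlt (jt F (dims μ.1)) := by
    refine hasAlt_type _ (fun j => Even j ∧ 0 < j) ?_ ?_
    · rintro j ⟨⟨i, rfl⟩, hj⟩
      rw [show i + i = 2 * (i - 1) + 2 by omega]
      exact hasAlt_even _
    · intro j hj
      rw [count_dims]
      rcases Nat.even_or_odd j with he | ho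
      · have h0 : j = 0 := by
          by_contra h
          exact hj ⟨he, Nat.pos_of_ne_zero h⟩
        subst h0
        rw [Multiset.count_eq_zero.2 fun h => Nat.lt_irrefl 0 (μ.1.parts_pos h)]
        exact Even.zero
      · exact μ.2.2 j ho
  obtain ⟨e, A, hA'⟩ := (symplectic_iff (sum_dims μ.1)).2 hA
  obtain ⟨L, hL⟩ := exists_equiv_of_isConj e hA'
  obtain ⟨f₀⟩ := exists_frame_of_equiv L hL
  obtain ⟨B, hB, hu, hdisc⟩ := exists_disc (dims_pos μ.1) p hp (f₀.isInv A.2) f₀.isUnit
    (fun j => ∀ h : j ∈ μ.signed p, s ⟨j, h⟩ = true)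
  obtain ⟨g, f, hf⟩ := exists_of_form h2 (sum_dims μ.1) hB hu
  refine ⟨g, f, Subtype.ext ?_, fun j hj => ?_⟩
  · show g.1 ^ p = 1
    exact f.pow_char fun k => μ.2.1 _ (dims_mem μ.1 k)
  · obtain ⟨h1, h2⟩ := (μ.mem_signed j).1 hj
    rw [hf, hdisc j h1 h2]
    exact ⟨fun h => h hj, fun h _ => h⟩

/-- The classes of the elements of `p`-power one are the signed partitions. -/
theorem card_pow_classes (hp : p ≠ 2) :
    Nat.card {C : ConjClasses (symplecticGroup (Fin m) F) //
        ∃ g : symplecticGroup (Fin m) F, ConjClasses.mk g = C ∧ g ^ p = 1} =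
      Nat.card (Σ μ : Good m p, ({j // j ∈ μ.signed p} → Bool)) := by
  classical
  choose g f hg hf using fun x : (Σ μ : Good m p, ({j // j ∈ μ.signed p} → Bool)) =>
    exists_rep (F := F) hp x.1 x.2
  refine (Nat.card_congr (Equiv.ofBijective (fun x => (⟨_, g x, rfl, hg x⟩ :
    {C : ConjClasses (symplecticGroup (Fin m) F) //
      ∃ g : symplecticGroup (Fin m) F, ConjClasses.mk g = C ∧ g ^ p = 1})) ⟨?_, ?_⟩)).symm
  · intro x y hxy
    have hconj : IsConj (g x) (g y) := ConjClasses.mk_eq_mk_iff_isConj.1 (congrArg Subtype.val hxy)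
    obtain ⟨f', hf'⟩ := exists_frame_conj hconj (f x)
    have hμ : x.1 = y.1 := by
      refine Subtype.ext (Nat.Partition.ext (eq_of_blockRank (fun a ha => x.1.1.parts_pos ha)
        (fun a ha => y.1.1.parts_pos ha) fun j => ?_))
      rw [← sum_dims_sub, ← sum_dims_sub, ← f'.finrank_range, ← (f y).finrank_range]
    obtain ⟨μ, s⟩ := x
    obtain ⟨μ', s'⟩ := y
    subst hμ
    congr 1
    funext ⟨j, hj⟩
    have h1 := disc_congr (dims_pos μ.1) (f'.isInv (g ⟨μ, s'⟩).2)
      (rel_frames f' (f ⟨μ, s'⟩)) (f ⟨μ, s'⟩).isUnit j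
    rw [hf', hf ⟨μ, s'⟩ j hj, hf ⟨μ, s⟩ j hj] at h1
    exact Bool.eq_iff_iff.2 h1.symm
  · rintro ⟨C, a, rfl, ha⟩
    have ha' : (a : Matrix (Fin m ⊕ Fin m) (Fin m ⊕ Fin m) F) ^ p = 1 := congrArg Subtype.val ha
    have hgp : (a : Matrix (Fin m ⊕ Fin m) (Fin m ⊕ Fin m) F).mulVecLin ^ p = 1 := by
      show Matrix.toLinAlgEquiv' (a : Matrix (Fin m ⊕ Fin m) (Fin m ⊕ Fin m) F) ^ p = 1
      rw [← map_pow, ha', map_one]
    obtain ⟨ν, hν, hr, hs, -⟩ := exists_blocks_char (p := p) hgp (inv_top _)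
    have hsum : ν.sum = 2 * m := by
      rw [hs, finrank_top, Module.finrank_pi, Fintype.card_sum, Fintype.card_fin]
      omega
    let π : Nat.Partition (2 * m) := ⟨ν, fun h => (hν _ h).1, hsum⟩
    obtain ⟨f₁⟩ := exists_frame_of_ranks (p := p) (d := dims π) ha' fun j => by
      rw [sum_dims_sub]
      show _ = blockRank ν j
      rw [← hr j, Submodule.map_top]
    have hev : ∀ j, Odd j → Even (π.parts.count j) := fun j hj => by
      rw [← count_dims π j]
      exact even_of_hasAlt (f₁.hasAlt a.2) hj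
    let μ : Good m p := ⟨π, fun b hb => (hν b hb).2, hev⟩
    let x : Σ μ : Good m p, ({j // j ∈ μ.signed p} → Bool) :=
      ⟨μ, fun j => decide (disc (dims_pos π) f₁.form j.1)⟩
    refine ⟨x, Subtype.ext (ConjClasses.mk_eq_mk_iff_isConj.2 ?_)⟩
    refine isConj_of_rel _ _ (f x) f₁ (rel_of_disc (dims_pos π) p hp ((f x).isInv (g x).2)
      (f x).isUnit (f₁.isInv a.2) f₁.isUnit fun j hj hmem => ?_)
    have := hf x j ((μ.mem_signed j).2 ⟨hj, hmem⟩)
    exact this.trans decide_eq_true_iff

end CfsgLib.SpUnip
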