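import Cfsg.Agent.Lib.SpUnipClass.Forms
import Cfsg.Agent.Lib.UnipotentClassical.Criterion
import Cfsg.Agent.Lib.LinFix.Jordan
import Cfsg.Agent.Lib.LinFix.JordanIso

/-!
Unipotent elements of the symplectic group and invariant forms of their Jordan types.
-/

set_option autoImplicit false

namespace CfsgLib.SpUnip

open Matrix CfsgLib.UnipotentGL CfsgLib.UnipotentClassical

variable {F : Type*} [Field F] {m t : ℕ} {d : Fin t → ℕ}

local notation "Jm" => Cfsg.jordanTypeMatrix d F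
local notation "Js" => Matrix.J (Fin m) F

/-- A basis in which `g` has the given Jordan type. -/
structure Frame (d : Fin t → ℕ) (g : Matrix (Fin m ⊕ Fin m) (Fin m ⊕ Fin m) F) where
  /-- the change of coordinates -/
  P : Matrix (Fin m ⊕ Fin m) (Idx d) F
  /-- its inverse -/
  Q : Matrix (Idx d) (Fin m ⊕ Fin m) F
  PQ : P * Q = 1
  QP : Q * P = 1
  comm : g * P = P * Cfsg.jordanTypeMatrix d F

variable {g g' : Matrix (Fin m ⊕ Fin m) (Fin m ⊕ Fin m) F}

/-- The form of a frame. -/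
def Frame.form (f : Frame d g) : Matrix (Idx d) (Idx d) F := f.Pᵀ * Js * f.P

theorem Frame.comm' (f : Frame d g) : f.Q * g = Jm * f.Q := by
  calc f.Q * g = f.Q * g * (f.P * f.Q) := by rw [f.PQ, Matrix.mul_one]
    _ = f.Q * (g * f.P) * f.Q := by simp only [Matrix.mul_assoc]
    _ = Jm * f.Q := by
      rw [f.comm, ← Matrix.mul_assoc f.Q f.P, f.QP, Matrix.one_mul]

theorem Frame.isInv (f : Frame d g) (hg : g ∈ symplecticGroup (Fin m) F) : IsInv f.form := by
  refine ⟨?_, ?_⟩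
  · simp only [Frame.form, transpose_mul, transpose_transpose, J_transpose, Matrix.neg_mul,
      Matrix.mul_neg, Matrix.mul_assoc]
  · rw [SymplecticGroup.mem_iff'] at hg
    calc (Jm)ᵀ * f.form * Jm = (f.P * Jm)ᵀ * Js * (f.P * Jm) := by
          simp only [Frame.form, transpose_mul, Matrix.mul_assoc]
      _ = f.Pᵀ * (gᵀ * Js * g) * f.P := by
          rw [← f.comm]; simp only [transpose_mul, Matrix.mul_assoc]
      _ = f.form := by rw [hg]; rfl

theorem Frame.isUnit (f : Frame d g) : IsUnit f.form := by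
  refine IsUnit.of_mul_eq_one (-(f.Q * Js * f.Qᵀ)) ?_
  calc f.form * -(f.Q * Js * f.Qᵀ) = -(f.Pᵀ * Js * (f.P * f.Q) * Js * f.Qᵀ) := by
        simp only [Frame.form, Matrix.mul_neg, Matrix.mul_assoc]
    _ = -(f.Pᵀ * (Js * Js) * f.Qᵀ) := by rw [f.PQ]; simp only [Matrix.mul_one, Matrix.mul_assoc]
    _ = (f.Q * f.P)ᵀ := by
        rw [J_squared]
        simp [transpose_mul]
    _ = 1 := by rw [f.QP, transpose_one]

theorem isConj_of_rel (g g' : symplecticGroup (Fin m) F) (f : Frame d g.1) (f' : Frame d g'.1)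
    (h : Rel f.form f'.form) : IsConj g g' := by
  obtain ⟨X, -, hX, hXe⟩ := h
  have hmem : f.P * X * f'.Q ∈ symplecticGroup (Fin m) F := by
    rw [SymplecticGroup.mem_iff']
    calc (f.P * X * f'.Q)ᵀ * Js * (f.P * X * f'.Q) = f'.Qᵀ * (Xᵀ * f.form * X) * f'.Q := by
          simp only [Frame.form, transpose_mul, Matrix.mul_assoc]
      _ = (f'.P * f'.Q)ᵀ * Js * (f'.P * f'.Q) := by
          rw [hXe]; simp only [Frame.form, transpose_mul, Matrix.mul_assoc]
      _ = Js := by rw [f'.PQ, transpose_one, Matrix.one_mul, Matrix.mul_one]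
  refine IsConj.symm (isConj_iff.2 ⟨⟨_, hmem⟩, mul_inv_eq_iff_eq_mul.2 (Subtype.ext ?_)⟩)
  show f.P * X * f'.Q * g'.1 = g.1 * (f.P * X * f'.Q)
  calc f.P * X * f'.Q * g'.1 = f.P * X * (f'.Q * g'.1) := by simp only [Matrix.mul_assoc]
    _ = f.P * (X * Jm) * f'.Q := by rw [f'.comm']; simp only [Matrix.mul_assoc]
    _ = f.P * Jm * X * f'.Q := by rw [hX]; simp only [Matrix.mul_assoc]
    _ = _ := by rw [← f.comm]; simp only [Matrix.mul_assoc]

theorem rel_frames (f f' : Frame d g) : Rel f.form f'.form := by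
  refine ⟨f.Q * f'.P, IsUnit.of_mul_eq_one (f'.Q * f.P) ?_, ?_, ?_⟩
  · rw [Matrix.mul_assoc, ← Matrix.mul_assoc f'.P, f'.PQ, Matrix.one_mul, f.QP]
  · show f.Q * f'.P * Jm = Jm * (f.Q * f'.P)
    rw [Matrix.mul_assoc, ← f'.comm, ← Matrix.mul_assoc, f.comm', Matrix.mul_assoc]
  · calc (f.Q * f'.P)ᵀ * f.form * (f.Q * f'.P)
        = f'.Pᵀ * (f.P * f.Q)ᵀ * Js * ((f.P * f.Q) * f'.P) := by
          simp only [Frame.form, transpose_mul, Matrix.mul_assoc]
      _ = f'.form := by rw [f.PQ, transpose_one, Matrix.mul_one, Matrix.one_mul]; rfl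

/-- Transport of a frame along a conjugation. -/
theorem exists_frame_conj {a b : symplecticGroup (Fin m) F} (h : IsConj a b) (f : Frame d a.1) :
    ∃ f' : Frame d b.1, f'.form = f.form := by
  obtain ⟨c, rfl⟩ := isConj_iff.1 h
  have hc : (↑c⁻¹ : Matrix (Fin m ⊕ Fin m) (Fin m ⊕ Fin m) F) * c.1 = 1 :=
    congrArg Subtype.val (inv_mul_cancel c)
  have hc' : c.1 * (↑c⁻¹ : Matrix (Fin m ⊕ Fin m) (Fin m ⊕ Fin m) F) = 1 :=
    congrArg Subtype.val (mul_inv_cancel c)
  refine ⟨⟨c.1 * f.P, f.Q * (↑c⁻¹ : Matrix (Fin m ⊕ Fin m) (Fin m ⊕ Fin m) F), ?_, ?_, ?_⟩, ?_⟩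
  · rw [Matrix.mul_assoc, ← Matrix.mul_assoc f.P, f.PQ, Matrix.one_mul, hc']
  · rw [Matrix.mul_assoc, ← Matrix.mul_assoc _ c.1, hc, Matrix.one_mul, f.QP]
  · show c.1 * a.1 * (↑c⁻¹ : Matrix (Fin m ⊕ Fin m) (Fin m ⊕ Fin m) F) * (c.1 * f.P) = _
    rw [Matrix.mul_assoc, ← Matrix.mul_assoc _ c.1 f.P, hc, Matrix.one_mul, Matrix.mul_assoc, f.comm,
      Matrix.mul_assoc]
  · show (c.1 * f.P)ᵀ * Js * (c.1 * f.P) = _
    have := SymplecticGroup.mem_iff'.1 c.2
    calc (c.1 * f.P)ᵀ * Js * (c.1 * f.P) = f.Pᵀ * ((c.1)ᵀ * Js * c.1) * f.P := by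
          simp only [transpose_mul, Matrix.mul_assoc]
      _ = _ := by rw [this]; rfl

/-- A form determines an element of the symplectic group with a frame. -/
theorem exists_of_form (h2 : (2 : F) ≠ 0) (hsum : ∑ k, d k = 2 * m) {B : Matrix (Idx d) (Idx d) F}
    (hB : IsInv B) (hu : IsUnit B) :
    ∃ (g : symplecticGroup (Fin m) F) (f : Frame d g.1), f.form = B := by
  obtain ⟨r, P, Q, hPQ, hQP, hP, hc⟩ := exists_symp_coords h2 hB.skew hu
  obtain rfl : r = m := by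
    rw [Fintype.card_sigma] at hc
    simp only [Fintype.card_fin] at hc
    omega
  have hQ : Qᵀ * B * Q = Matrix.J (Fin r) F := by
    rw [← hP]
    calc Qᵀ * (Pᵀ * Matrix.J (Fin r) F * P) * Q = (P * Q)ᵀ * Matrix.J (Fin r) F * (P * Q) := by
          simp only [transpose_mul, Matrix.mul_assoc]
      _ = _ := by rw [hPQ, transpose_one, Matrix.one_mul, Matrix.mul_one]
  refine ⟨⟨P * Jm * Q, SymplecticGroup.mem_iff'.2 ?_⟩, ⟨P, Q, hPQ, hQP, ?_⟩, hP⟩
  · calc (P * Jm * Q)ᵀ * Matrix.J (Fin r) F * (P * Jm * Q) = Qᵀ * ((Jm)ᵀ * B * Jm) * Q := by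
          rw [← hP]; simp only [transpose_mul, Matrix.mul_assoc]
      _ = _ := by rw [hB.inv, hQ]
  · show P * Jm * Q * P = P * Jm
    rw [Matrix.mul_assoc, hQP, Matrix.mul_one]

/-- The linear equivalence of a frame. -/
noncomputable def Frame.equiv (f : Frame d g) : (Idx d → F) ≃ₗ[F] (Fin m ⊕ Fin m → F) :=
  LinearEquiv.ofLinear (Matrix.mulVecLin f.P) (Matrix.mulVecLin f.Q)
    (by rw [← Matrix.mulVecLin_mul, f.PQ, Matrix.mulVecLin_one])
    (by rw [← Matrix.mulVecLin_mul, f.QP, Matrix.mulVecLin_one])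

theorem Frame.equiv_jt (f : Frame d g) (v : Idx d → F) :
    f.equiv (jt F d v) = g.mulVecLin (f.equiv v) := by
  show f.P *ᵥ (Jm *ᵥ v) = g *ᵥ (f.P *ᵥ v)
  rw [mulVec_mulVec, mulVec_mulVec, f.comm]

theorem Frame.finrank_range (f : Frame d g) (j : ℕ) :
    Module.finrank F (LinearMap.range ((g.mulVecLin - 1) ^ j)) = ∑ k, (d k - j) := by
  rw [← finrank_range_jt (F := F) d j]
  have h : ∀ (j : ℕ) v, ((g.mulVecLin - 1) ^ j) (f.equiv v) = f.equiv (((jt F d - 1) ^ j) v) := by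
    intro j
    induction j with
    | zero => intro v; rfl
    | succ j ih =>
      intro v
      simp only [pow_succ', Module.End.mul_apply, ih, LinearMap.sub_apply, Module.End.one_apply,
        map_sub, f.equiv_jt]
  have hr : LinearMap.range ((g.mulVecLin - 1) ^ j) =
      (LinearMap.range ((jt F d - 1) ^ j)).map f.equiv.toLinearMap := by
    ext w
    simp only [LinearMap.mem_range, Submodule.mem_map, LinearEquiv.coe_coe, exists_exists_eq_and, ← h]
    exact ⟨fun ⟨v, hv⟩ => ⟨f.equiv.symm v, by rwa [LinearEquiv.apply_symm_apply]⟩,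
      fun ⟨v, hv⟩ => ⟨_, hv⟩⟩
  rw [hr, LinearEquiv.finrank_map_eq]

theorem Frame.hasAlt (f : Frame d g) (hg : g ∈ symplecticGroup (Fin m) F) : HasAlt (jt F d) := by
  refine HasAlt.congr (w := g.mulVecLin) ?_ f.equiv f.equiv_jt
  exact ⟨LinearMap.mk₂ F (Cfsg.sympForm m F) CfsgLib.Linear.Symp.form_add_left
    CfsgLib.Linear.Symp.form_smul_left CfsgLib.Linear.Symp.form_add_right
    CfsgLib.Linear.Symp.form_smul_right, CfsgLib.Linear.Symp.form_self,
    fun v hv => CfsgLib.Linear.Symp.eq_zero_of_forall_form hv,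
    fun v w => CfsgLib.Linear.Symp.form_mulVec hg v w⟩

theorem exists_frame_of_equiv (L : (Idx d → F) ≃ₗ[F] (Fin m ⊕ Fin m → F))
    (hL : ∀ v, L (jt F d v) = g *ᵥ L v) : Nonempty (Frame d g) := by
  refine ⟨⟨LinearMap.toMatrix' L.toLinearMap, LinearMap.toMatrix' L.symm.toLinearMap, ?_, ?_, ?_⟩⟩
  · rw [← LinearMap.toMatrix'_comp, LinearEquiv.comp_symm, LinearMap.toMatrix'_id]
  · rw [← LinearMap.toMatrix'_comp, LinearEquiv.symm_comp, LinearMap.toMatrix'_id]
  · refine Matrix.ext_iff_mulVec.2 fun v => ?_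
    rw [← mulVec_mulVec, ← mulVec_mulVec, LinearMap.toMatrix'_mulVec, LinearMap.toMatrix'_mulVec]
    exact (hL v).symm

variable {p : ℕ} [Fact p.Prime] [CharP F p]

theorem exists_frame_of_ranks (hg : g ^ p = 1)
    (hr : ∀ j, Module.finrank F (LinearMap.range ((g.mulVecLin - 1) ^ j)) = ∑ k, (d k - j)) :
    Nonempty (Frame d g) := by
  have hN : IsNilpotent (jt F d - 1) := ⟨Finset.univ.sup d, by
    rw [← LinearMap.range_eq_bot, ← Submodule.finrank_eq_zero, finrank_range_jt]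
    exact Finset.sum_eq_zero fun k _ => Nat.sub_eq_zero_of_le (Finset.le_sup (f := d) (Finset.mem_univ k))⟩
  have hgp : g.mulVecLin ^ p = 1 := by
    show Matrix.toLinAlgEquiv' g ^ p = 1
    rw [← map_pow, hg, map_one]
  obtain ⟨e, he⟩ := CfsgLib.LinFix.exists_equiv_of_ranks hN
    (⟨p, by rw [CfsgLib.LinFix.sub_one_pow_char, hgp, sub_self]⟩ : IsNilpotent (g.mulVecLin - 1))
    (fun j => by rw [hr, finrank_range_jt])
  refine exists_frame_of_equiv e fun v => ?_
  have := he v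
  simpa only [LinearMap.sub_apply, Module.End.one_apply, map_sub, sub_left_inj,
    Matrix.mulVecLin_apply] using this

theorem Frame.pow_char (f : Frame d g) (hd : ∀ k, d k ≤ p) : g ^ p = 1 := by
  have h := f.finrank_range p
  rw [Finset.sum_eq_zero fun k _ => Nat.sub_eq_zero_of_le (hd k), Submodule.finrank_eq_zero,
    LinearMap.range_eq_bot, CfsgLib.LinFix.sub_one_pow_char, sub_eq_zero] at h
  apply Matrix.toLinAlgEquiv'.injective
  rw [map_pow, map_one]
  exact h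

end CfsgLib.SpUnip
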